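import Mathlib.FieldTheory.IsSepClosed
import Mathlib.Algebra.CharP.Lemmas
import Mathlib.Algebra.CharP.Frobenius
import Mathlib.LinearAlgebra.Basis.VectorSpace
import Mathlib.LinearAlgebra.Dimension.Finite
import Mathlib.LinearAlgebra.Dimension.OrzechProperty
import Mathlib.LinearAlgebra.FiniteDimensional.Basic
import Mathlib.LinearAlgebra.FiniteDimensional.Lemmas
import Mathlib.RingTheory.Noetherian.Basic
import Mathlib.RingTheory.Artinian.Module
import Mathlib.Tactic.LinearCombination

/-! Frobenius-semilinear endomorphisms over separably closed fields. -/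

set_option autoImplicit false
set_option linter.unusedVariables false
set_option linter.unusedSectionVars false
set_option linter.style.haveILetI false

universe u v

open Polynomial

namespace Groth.Agent.SLang50

variable {k : Type u} [Field k] {q : ℕ} {V : Type v} [AddCommGroup V] [Module k V]

/-- `φ` is `q`-linear. -/
def IsQLinear (k : Type u) [Field k] {V : Type v} [AddCommGroup V] [Module k V] (q : ℕ) (φ : V →+ V) :
    Prop :=
  ∀ (c : k) (v : V), φ (c • v) = c ^ q • φ v

theorem map_sum_smul {φ : V →+ V} (hφ : IsQLinear k q φ) {ι : Type*} (s : Finset ι) (c : ι → k)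
    (b : ι → V) : φ (∑ i ∈ s, c i • b i) = ∑ i ∈ s, c i ^ q • φ (b i) := by
  rw [map_sum]
  exact Finset.sum_congr rfl fun i _ => hφ _ _

theorem map_mem_span {φ : V →+ V} (hφ : IsQLinear k q φ) (S : Set V) {x : V}
    (hx : x ∈ Submodule.span k S) : φ x ∈ Submodule.span k (φ '' S) := by
  induction hx using Submodule.span_induction with
  | mem x hx => exact Submodule.subset_span ⟨x, hx, rfl⟩
  | zero => rw [map_zero]; exact zero_mem _
  | add x y _ _ hx hy => rw [map_add]; exact add_mem hx hy
  | smul a x _ hx => rw [hφ]; exact Submodule.smul_mem _ _ hx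

theorem linearIndependent_image [FiniteDimensional k V] {φ : V →+ V} (hφ : IsQLinear k q φ)
    (hss : Submodule.span k (Set.range φ) = ⊤) {ι : Type*} {b : ι → V}
    (hb : LinearIndependent k b) : LinearIndependent k (fun i => φ (b i)) := by
  classical
  let B := Module.Basis.extend hb.linearIndepOn_id
  have := FiniteDimensional.fintypeBasisIndex B
  have hspan : ⊤ ≤ Submodule.span k (Set.range fun j => φ (B j)) := by
    rw [← hss, Submodule.span_le]
    rintro _ ⟨x, rfl⟩
    have := map_mem_span hφ (Set.range B) (B.mem_span x)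
    rwa [← Set.range_comp] at this
  have hli : LinearIndependent k (fun j => φ (B j)) :=
    linearIndependent_of_top_le_span_of_card_eq_finrank hspan (Module.finrank_eq_card_basis B).symm
  have hmem : ∀ i, b i ∈ hb.linearIndepOn_id.extend (Set.subset_univ _) := fun i =>
    Module.Basis.subset_extend hb.linearIndepOn_id (Set.mem_range_self i)
  have hinj : Function.Injective fun i => (⟨b i, hmem i⟩ : hb.linearIndepOn_id.extend (Set.subset_univ _)) :=
    fun i j hij => hb.injective (congrArg Subtype.val hij)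
  have h2 := hli.comp _ hinj
  have h3 : ∀ j, B j = (j : V) := fun j => Module.Basis.extend_apply_self hb.linearIndepOn_id j
  simpa [Function.comp_def, h3] using h2

theorem exists_fixed [IsSepClosed k] [FiniteDimensional k V] [Nontrivial V] (hq : 1 < q)
    (hqk : (q : k) = 0) {φ : V →+ V} (hφ : IsQLinear k q φ)
    (hss : Submodule.span k (Set.range φ) = ⊤) : ∃ w : V, w ≠ 0 ∧ φ w = w := by
  classical
  obtain ⟨v, hv⟩ := exists_ne (0 : V)
  let e : ℕ → V := fun i => (⇑φ)^[i] v
  have he : ∀ i, φ (e i) = e (i + 1) := fun i => (Function.iterate_succ_apply' (⇑φ) i v).symm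
  have hex : ∃ r, e r ∈ Submodule.span k (e '' (Finset.range r : Set ℕ)) := by
    by_contra h
    push Not at h
    have : ∀ r, LinearIndepOn k e (Finset.range r : Set ℕ) := by
      intro r
      induction r with
      | zero => simp
      | succ r ih =>
        rw [Finset.range_add_one, Finset.coe_insert]
        exact ih.insert (h r)
    have := (this (Module.finrank k V + 1)).linearIndependent.fintype_card_le_finrank
    simp at this
  obtain ⟨r, hr, hmin⟩ : ∃ r, e r ∈ Submodule.span k (e '' (Finset.range r : Set ℕ)) ∧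
      ∀ s < r, e s ∉ Submodule.span k (e '' (Finset.range s : Set ℕ)) :=
    ⟨Nat.find hex, Nat.find_spec hex, fun s hs => Nat.find_min hex hs⟩
  have hli : ∀ s ≤ r, LinearIndepOn k e (Finset.range s : Set ℕ) := by
    intro s
    induction s with
    | zero => simp
    | succ s ih =>
      intro hs
      rw [Finset.range_add_one, Finset.coe_insert]
      exact (ih (by omega)).insert (hmin s (by omega))
  obtain ⟨m, rfl⟩ : ∃ m, r = m + 1 := by
    refine Nat.exists_eq_succ_of_ne_zero ?_
    rintro rfl
    simp [e] at hr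
    exact hv hr
  have hfin : LinearIndependent k (fun i : Fin (m + 1) => e i) :=
    (hli _ le_rfl).linearIndependent.comp (fun i : Fin (m + 1) => ⟨i.1, by simpa using Nat.lt_succ_iff.mp i.2⟩)
      fun i j h => Fin.ext (congrArg Subtype.val h)
  have hrange : e '' (Finset.range (m + 1) : Set ℕ) = Set.range fun i : Fin (m + 1) => e i := by
    ext x
    simp [Set.mem_image, Fin.exists_iff]
  rw [hrange, Submodule.mem_span_range_iff_exists_fun] at hr
  obtain ⟨a, ha⟩ := hr
  have ha0 : a 0 ≠ 0 := by
    intro h0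
    have hshift : LinearIndependent k (fun i : Fin (m + 1) => e (i + 1)) := by
      simpa [he] using linearIndependent_image hφ hss hfin
    rw [Fintype.linearIndependent_iff] at hshift
    have := hshift (Fin.snoc (fun i : Fin m => a i.succ) (-1)) ?_ (Fin.last m)
    · simp at this
    · rw [Fin.sum_univ_castSucc]
      simp only [Fin.snoc_castSucc, Fin.snoc_last, Fin.val_castSucc, Fin.val_last, neg_smul, one_smul]
      rw [Fin.sum_univ_succ, h0, zero_smul, zero_add] at ha
      simp only [Fin.val_succ] at ha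
      rw [ha, add_neg_cancel]
  let A : ℕ → k := fun i => if h : i < m + 1 then a ⟨i, h⟩ else 0
  have hA : ∑ i ∈ Finset.range (m + 1), A i • e i = e (m + 1) := by
    rw [← ha, Finset.sum_range]
    exact Finset.sum_congr rfl fun i _ => by simp only [A, dif_pos i.2, Fin.eta]
  rw [Finset.sum_range_succ'] at hA
  have hA0 : A 0 ≠ 0 := by simpa [A] using ha0
  let P : ℕ → k[X] := fun i => Nat.rec (C (A 0) * X ^ q)
    (fun j pj => pj ^ q + C (A (j + 1)) * X ^ q) i
  have hP : ∀ i, (P i).natDegree = q ^ (i + 1) ∧ (P i).derivative = 0 := by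
    intro i
    induction i with
    | zero =>
      exact ⟨by simp [P, natDegree_C_mul_X_pow q (A 0) hA0],
        by simp [P, derivative_X_pow, hqk]⟩
    | succ i ih =>
      show (P i ^ q + C (A (i + 1)) * X ^ q).natDegree = _ ∧
        (P i ^ q + C (A (i + 1)) * X ^ q).derivative = 0
      refine ⟨?_, by simp [derivative_pow, derivative_X_pow, hqk]⟩
      have hlt : (C (A (i + 1)) * X ^ q).natDegree < (P i ^ q).natDegree := by
        refine lt_of_le_of_lt (natDegree_C_mul_X_pow_le _ _) ?_
        rw [natDegree_pow, ih.1, ← pow_succ']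
        exact lt_self_pow₀ hq (by omega)
      rw [natDegree_add_eq_left_of_natDegree_lt hlt, natDegree_pow, ih.1, ← pow_succ']
  let Q := P m - X
  have hQd : Q.natDegree = q ^ (m + 1) := by
    rw [natDegree_sub_eq_left_of_natDegree_lt, (hP m).1]
    rw [(hP m).1, natDegree_X]
    exact Nat.one_lt_pow (by omega) hq
  have hQs : Q.Separable := by
    rw [separable_def, show Q.derivative = -1 by simp [Q, (hP m).2]]
    exact isCoprime_one_right.neg_right
  obtain ⟨x, hxQ, hx0⟩ : ∃ x ∈ Q.roots, x ≠ 0 := by
    by_contra h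
    push Not at h
    have h1 : Q.roots = Multiset.replicate (Multiset.card Q.roots) 0 :=
      Multiset.eq_replicate_card.mpr h
    have h2 : Multiset.card Q.roots = q ^ (m + 1) :=
      hQd ▸ ((IsSepClosed.splits_of_separable Q hQs).natDegree_eq_card_roots).symm
    have h3 := Multiset.nodup_iff_count_le_one.mp (nodup_roots hQs) 0
    rw [h1, Multiset.count_replicate_self, h2] at h3
    exact absurd h3 (not_le.mpr (Nat.one_lt_pow (by omega) hq))
  have hxm : (P m).eval x = x := by
    have := (mem_roots'.mp hxQ).2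
    simpa [Q, sub_eq_zero] using this
  refine ⟨∑ i ∈ Finset.range (m + 1), (P i).eval x • e i, fun h0 => hx0 ?_, ?_⟩
  · rw [← hxm]
    rw [Finset.sum_range] at h0
    exact Fintype.linearIndependent_iff.1 hfin (fun i => (P i).eval x) h0 (Fin.last m)
  · calc φ (∑ i ∈ Finset.range (m + 1), (P i).eval x • e i)
        = (∑ i ∈ Finset.range m, (P i).eval x ^ q • e (i + 1)) + x ^ q • e (m + 1) := by
          rw [map_sum, Finset.sum_range_succ]
          simp only [hφ _ _, he, hxm]
      _ = ∑ i ∈ Finset.range m, (P (i + 1)).eval x • e (i + 1) + (P 0).eval x • e 0 := by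
          rw [← hA, smul_add, ← add_assoc, Finset.smul_sum, ← Finset.sum_add_distrib]
          congr 1
          · refine Finset.sum_congr rfl fun i _ => ?_
            rw [smul_smul, ← add_smul]
            congr 1
            show _ = (P i ^ q + C (A (i + 1)) * X ^ q).eval x
            rw [eval_add, eval_pow, eval_mul, eval_C, eval_pow, eval_X]; ring
          · rw [smul_smul]
            show _ = (C (A 0) * X ^ q).eval x • e 0
            rw [eval_mul, eval_C, eval_pow, eval_X, mul_comm]
      _ = ∑ i ∈ Finset.range (m + 1), (P i).eval x • e i := by rw [Finset.sum_range_succ']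

theorem exists_sub_pow_eq [IsSepClosed k] (hq : 1 < q) (hqk : (q : k) = 0) (c : k) :
    ∃ t : k, t - t ^ q = c := by
  have h1 : (X - C c : k[X]).natDegree < (X ^ q : k[X]).natDegree := by
    rw [natDegree_X_sub_C, natDegree_X_pow]; exact hq
  have hd : (X ^ q - (X - C c) : k[X]).natDegree = q := by
    rw [natDegree_sub_eq_left_of_natDegree_lt h1, natDegree_X_pow]
  have hne : (X ^ q - (X - C c) : k[X]).degree ≠ 0 := fun h => by
    rw [natDegree_eq_zero_iff_degree_le_zero.2 h.le] at hd
    omega
  obtain ⟨t, ht⟩ := IsSepClosed.exists_root (X ^ q - (X - C c) : k[X]) hne (by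
    rw [separable_def, show (X ^ q - (X - C c) : k[X]).derivative = -1 by simp [derivative_X_pow, hqk]]
    exact isCoprime_one_right.neg_right)
  refine ⟨t, ?_⟩
  simp only [IsRoot, eval_sub, eval_pow, eval_X, eval_C] at ht
  linear_combination -ht

theorem span_fixed_eq_top [IsSepClosed k] (hq : 1 < q) (hqk : (q : k) = 0) :
    ∀ (n : ℕ) (V : Type v) [AddCommGroup V] [Module k V] [FiniteDimensional k V] (φ : V →+ V),
      IsQLinear k q φ → Submodule.span k (Set.range φ) = ⊤ → Module.finrank k V = n →
      Submodule.span k {v : V | φ v = v} = ⊤ := by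
  intro n
  induction n with
  | zero =>
    intro V _ _ _ φ _ _ hn
    have := Module.finrank_zero_iff (R := k) (M := V) |>.mp hn
    exact Subsingleton.elim _ _
  | succ n ih =>
    intro V _ _ _ φ hφ hss hn
    have : Nontrivial V := Module.nontrivial_of_finrank_eq_succ hn
    obtain ⟨w, hw0, hw⟩ := exists_fixed hq hqk hφ hss
    let U : Submodule k V := k ∙ w
    have hU : U.toAddSubgroup ≤ U.toAddSubgroup.comap φ := by
      intro x hx
      obtain ⟨c, rfl⟩ := Submodule.mem_span_singleton.1 hx
      show φ (c • w) ∈ U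
      rw [hφ, hw]
      exact Submodule.smul_mem _ _ (Submodule.mem_span_singleton_self w)
    let ψ : (V ⧸ U) →+ (V ⧸ U) := QuotientAddGroup.map U.toAddSubgroup U.toAddSubgroup φ hU
    have hψ : ∀ x : V, ψ (U.mkQ x) = U.mkQ (φ x) := fun x => rfl
    have hψl : IsQLinear k q ψ := by
      intro c y
      obtain ⟨y, rfl⟩ := U.mkQ_surjective y
      rw [← map_smul, hψ, hψ, hφ, map_smul]
    have hψs : Submodule.span k (Set.range ψ) = ⊤ := by
      refine top_le_iff.1 ?_
      rw [← U.range_mkQ, ← Submodule.map_top, ← hss, Submodule.map_span, ← Set.range_comp]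
      exact Submodule.span_mono (by rintro _ ⟨x, rfl⟩; exact ⟨U.mkQ x, hψ x⟩)
    have hdim : Module.finrank k (V ⧸ U) = n := by
      have := U.finrank_quotient_add_finrank
      rw [finrank_span_singleton hw0, hn] at this
      omega
    have hbar := ih (V ⧸ U) ψ hψl hψs hdim
    let S := Submodule.span k {v : V | φ v = v}
    have hwS : U ≤ S := by
      rw [Submodule.span_le, Set.singleton_subset_iff]
      exact Submodule.subset_span hw
    have hsub : {v : V ⧸ U | ψ v = v} ⊆ (S.map U.mkQ : Set (V ⧸ U)) := by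
      intro y hy
      obtain ⟨y, rfl⟩ := U.mkQ_surjective y
      have h1 : φ y - y ∈ U := (Submodule.Quotient.eq U).mp hy
      obtain ⟨c, hc⟩ := Submodule.mem_span_singleton.mp h1
      obtain ⟨t, ht⟩ := exists_sub_pow_eq hq hqk c
      refine ⟨y + t • w, Submodule.subset_span ?_, ?_⟩
      · show φ (y + t • w) = y + t • w
        have e : t ^ q = t - c := by linear_combination -ht
        rw [map_add, hφ, hw, e, sub_smul, hc]
        abel
      · have h2 : t • w ∈ U := Submodule.smul_mem _ t (Submodule.mem_span_singleton_self w)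
        simp [(Submodule.Quotient.mk_eq_zero U).mpr h2]
    have htop : S.map U.mkQ = ⊤ := top_le_iff.mp (hbar ▸ Submodule.span_le.mpr hsub)
    have := congrArg (Submodule.comap U.mkQ) htop
    rw [Submodule.comap_map_eq, Submodule.comap_top, Submodule.ker_mkQ, sup_eq_left.mpr hwS] at this
    exact this

theorem exists_fixed_basis [IsSepClosed k] (hq : 1 < q) (hqk : (q : k) = 0) [FiniteDimensional k V]
    {φ : V →+ V} (hφ : IsQLinear k q φ) (hss : Submodule.span k (Set.range φ) = ⊤) :
    ∃ b : Module.Basis (Fin (Module.finrank k V)) k V, (∀ i, φ (b i) = b i) ∧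
      ∀ v, φ v = ∑ i, (b.repr v i) ^ q • b i := by
  classical
  obtain ⟨B, hBsub, hBspan, hBli⟩ := exists_linearIndependent k {v : V | φ v = v}
  rw [span_fixed_eq_top hq hqk _ V φ hφ hss rfl] at hBspan
  have hfin : Fintype B := hBli.setFinite.fintype
  let b0 : Module.Basis B k V := Module.Basis.mk hBli (by simpa using hBspan.ge)
  let b := b0.reindex (Fintype.equivFinOfCardEq (Module.finrank_eq_card_basis b0).symm)
  have hb : ∀ i, φ (b i) = b i := fun i => by
    have h := hBsub (((Fintype.equivFinOfCardEq (Module.finrank_eq_card_basis b0).symm).symm i)).2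
    rw [show b i = _ from b0.reindex_apply _ i, Module.Basis.mk_apply]
    exact h
  refine ⟨b, hb, fun v => ?_⟩
  conv_lhs => rw [← b.sum_repr v]
  rw [map_sum_smul hφ]
  simp [hb]

theorem repr_pow_of_fixed {φ : V →+ V} {ι : Type*} [Fintype ι] (b : Module.Basis ι k V)
    (hb : ∀ v, φ v = ∑ i, (b.repr v i) ^ q • b i) {v : V} (hv : φ v = v) (i : ι) :
    b.repr v i ^ q = b.repr v i := by
  classical
  have h := congrArg (fun x => b.repr x i) ((hb v).symm.trans hv)
  simpa [Finsupp.single_apply] using h

/-- The spans of the images of the iterates. -/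
def imageSpan (k : Type u) [Field k] {V : Type v} [AddCommGroup V] [Module k V] (φ : V →+ V) (n : ℕ) :
    Submodule k V :=
  Submodule.span k (Set.range (φ^[n + 1]))

theorem exists_semisimple [FiniteDimensional k V] {φ : V →+ V} (hφ : IsQLinear k q φ) :
    ∃ N : ℕ, (∀ v, φ^[N + 1] v ∈ ⨅ n, imageSpan k φ n) ∧
      (∀ v ∈ ⨅ n, imageSpan k φ n, φ v ∈ ⨅ n, imageSpan k φ n) ∧
      (⨅ n, imageSpan k φ n) = imageSpan k φ N ∧ imageSpan k φ (N + 1) = imageSpan k φ N := by
  have hanti : Antitone (imageSpan k φ) := by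
    refine antitone_nat_of_succ_le fun n => Submodule.span_mono ?_
    rintro _ ⟨x, rfl⟩
    exact ⟨φ x, (Function.iterate_succ_apply _ _ _).symm⟩
  obtain ⟨N, hN⟩ := WellFoundedLT.antitone_chain_condition hanti
  have heq : (⨅ n, imageSpan k φ n) = imageSpan k φ N := by
    refine le_antisymm (iInf_le _ N) (le_iInf fun n => ?_)
    rcases le_total N n with h | h
    · exact (hN n h).le
    · exact hanti h
  refine ⟨N, fun v => heq ▸ Submodule.subset_span ⟨v, rfl⟩, fun v hv => ?_, heq,
    (hN (N + 1) (Nat.le_succ N)).symm⟩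
  rw [heq] at hv ⊢
  have := map_mem_span hφ _ hv
  refine Submodule.span_mono ?_ this
  rintro _ ⟨_, ⟨x, rfl⟩, rfl⟩
  exact ⟨φ x, by rw [← Function.iterate_succ_apply, Function.iterate_succ_apply' φ (N + 1)]⟩

theorem exists_semisimple_basis [IsSepClosed k] (hq : 1 < q) (hqk : (q : k) = 0)
    [FiniteDimensional k V] {φ : V →+ V} (hφ : IsQLinear k q φ) :
    ∃ b : Module.Basis (Fin (Module.finrank k ↥(⨅ n, imageSpan k φ n))) k ↥(⨅ n, imageSpan k φ n),
      (∀ i, φ (b i : V) = (b i : V)) ∧
      ∀ v : V, φ v = v → ∃ hv : v ∈ ⨅ n, imageSpan k φ n,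
        (∀ i, b.repr ⟨v, hv⟩ i ^ q = b.repr ⟨v, hv⟩ i) := by
  obtain ⟨N, hN, hstab, heq, hsucc⟩ := exists_semisimple hφ
  let W : Submodule k V := ⨅ n, imageSpan k φ n
  let ψ : ↥W →+ ↥W :=
    { toFun := fun x => ⟨φ x.1, hstab x.1 x.2⟩
      map_zero' := Subtype.ext (map_zero φ)
      map_add' := fun x y => Subtype.ext (map_add φ x.1 y.1) }
  have hψ : IsQLinear k q ψ := fun c x => Subtype.ext (hφ c x.1)
  have hψs : Submodule.span k (Set.range ψ) = ⊤ := by
    refine Submodule.map_injective_of_injective (f := W.subtype) W.injective_subtype ?_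
    rw [Submodule.map_span, Submodule.map_top, Submodule.range_subtype]
    refine le_antisymm (Submodule.span_le.2 ?_) ?_
    · rintro _ ⟨_, ⟨x, rfl⟩, rfl⟩
      exact (ψ x).2
    · conv_lhs => rw [show W = imageSpan k φ (N + 1) from heq.trans hsucc.symm]
      refine Submodule.span_le.2 ?_
      rintro _ ⟨x, rfl⟩
      rw [Function.iterate_succ_apply' φ (N + 1)]
      exact Submodule.subset_span ⟨_, ⟨⟨_, hN x⟩, rfl⟩, rfl⟩
  obtain ⟨b, hb, hrepr⟩ := exists_fixed_basis hq hqk hψ hψs
  refine ⟨b, fun i => congrArg Subtype.val (hb i), fun v hv => ?_⟩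
  have hvW : v ∈ W := by
    rw [← Function.iterate_fixed hv (N + 1)]
    exact hN v
  exact ⟨hvW, fun i => repr_pow_of_fixed b hrepr (Subtype.ext hv : ψ ⟨v, hvW⟩ = ⟨v, hvW⟩) i⟩

theorem surjective_sub [IsSepClosed k] (hq : 1 < q) (hqk : (q : k) = 0) [FiniteDimensional k V]
    {φ : V →+ V} (hφ : IsQLinear k q φ) : Function.Surjective fun v : V => v - φ v := by
  obtain ⟨N, hN, -, -, -⟩ := exists_semisimple hφ
  obtain ⟨b, hb, -⟩ := exists_semisimple_basis hq hqk hφ
  intro w
  have hW : ∀ u ∈ ⨅ n, imageSpan k φ n, ∃ v, v - φ v = u := by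
    intro u hu
    choose t ht using fun i => exists_sub_pow_eq hq hqk (b.repr ⟨u, hu⟩ i)
    refine ⟨∑ i, t i • (b i : V), ?_⟩
    rw [map_sum_smul hφ]
    simp only [hb, ← Finset.sum_sub_distrib, ← sub_smul, ht]
    have h := congrArg (Submodule.subtype _) (b.sum_repr ⟨u, hu⟩)
    rw [map_sum] at h
    exact h
  obtain ⟨v, hv⟩ := hW _ (hN w)
  refine ⟨(∑ i ∈ Finset.range (N + 1), φ^[i] w) + v, ?_⟩
  have htel : (∑ i ∈ Finset.range (N + 1), φ^[i] w) - φ (∑ i ∈ Finset.range (N + 1), φ^[i] w) =
      w - φ^[N + 1] w := by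
    rw [map_sum]
    simp only [← Function.iterate_succ_apply' (⇑φ)]
    rw [← Finset.sum_sub_distrib, Finset.sum_range_sub' (fun i => φ^[i] w) (N + 1)]
    rfl
  show _ - φ _ = w
  rw [map_add, add_sub_add_comm, htel, hv]
  abel

theorem iterate_map_sum (φ : V →+ V) (n : ℕ) {ι : Type*} (s : Finset ι) (f : ι → V) :
    φ^[n] (∑ i ∈ s, f i) = ∑ i ∈ s, φ^[n] (f i) := by
  induction n with
  | zero => simp
  | succ n ihn =>
    simp only [Function.iterate_succ_apply']
    rw [ihn, map_sum]

theorem iterate_fixed_iff [IsSepClosed k] (hq : 1 < q) (hqk : (q : k) = 0) [FiniteDimensional k V]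
    {φ : V →+ V} (hφ : IsQLinear k q φ) (hss : Submodule.span k (Set.range φ) = ⊤) (n : ℕ)
    (v : V) :
    φ^[n] v = v ↔ ∃ (s : Finset V) (c : V → k), (∀ w ∈ s, φ w = w) ∧
      (∀ w ∈ s, c w ^ (q ^ n) = c w) ∧ v = ∑ w ∈ s, c w • w := by
  classical
  have hit : ∀ (n : ℕ) (c : k) (x : V), φ^[n] (c • x) = c ^ (q ^ n) • φ^[n] x := by
    intro n
    induction n with
    | zero => simp
    | succ n ih =>
      intro c x
      rw [Function.iterate_succ_apply', ih, hφ, Function.iterate_succ_apply', ← pow_mul, ← pow_succ]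
  constructor
  · intro hv
    obtain ⟨b, hb, -⟩ := exists_fixed_basis hq hqk hφ hss
    have hc : ∀ i, b.repr v i ^ (q ^ n) = b.repr v i := by
      intro i
      have h : φ^[n] v = ∑ j, (b.repr v j) ^ (q ^ n) • b j := by
        conv_lhs => rw [← b.sum_repr v]
        rw [iterate_map_sum]
        refine Finset.sum_congr rfl fun j _ => ?_
        rw [hit, Function.iterate_fixed (hb j)]
      have h2 := congrArg (fun x => b.repr x i) (h.symm.trans hv)
      simpa [Finsupp.single_apply] using h2
    refine ⟨Finset.univ.image b, fun w => ∑ i, if b i = w then b.repr v i else 0, ?_, ?_, ?_⟩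
    · intro w hw
      obtain ⟨i, -, rfl⟩ := Finset.mem_image.1 hw
      exact hb i
    · intro w hw
      obtain ⟨i, -, rfl⟩ := Finset.mem_image.1 hw
      simp only [b.injective.eq_iff, Finset.sum_ite_eq', Finset.mem_univ, if_true]
      exact hc i
    · rw [Finset.sum_image (fun i _ j _ h => b.injective h)]
      simp only [b.injective.eq_iff, Finset.sum_ite_eq', Finset.mem_univ, if_true]
      exact (b.sum_repr v).symm
  · rintro ⟨s, c, hs, hc, rfl⟩
    rw [iterate_map_sum]
    refine Finset.sum_congr rfl fun w hw => ?_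
    rw [hit, hc w hw, Function.iterate_fixed (hs w hw)]

end Groth.Agent.SLang50
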